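import Cfsg.Agent.H378.AdjTab
import Cfsg.Agent.H378.TwAdj
import Cfsg.Agent.H343.WitExc

/-!
# Elements of order 3 in a root subgroup fixed by a Frobenius map (for S4185)

* `cube_simple` : `(x_i(t) x_{-i}(-1/t) x_i(t)²)³ = 1`;
* `exists_swap3` : `exists_swap` of `H378.RankOne` with an element of order 3.
-/

set_option autoImplicit false
set_option linter.unusedSectionVars false

namespace Cfsg.Agent.H493.NCRow

open CoxeterSystem Subgroup Cfsg Cfsg.Lie Cfsg.Lie.ChevalleyDatum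
open Cfsg.Agent.ChevalleyStructure Cfsg.Agent.ChevalleyStructure.Elts Cfsg.Agent.ChevalleyStructure.CoxeterGeom
  Cfsg.Agent.ChevalleyStructure.CoxeterGeomTypes Cfsg.Agent.ChevalleyStructure.NPerm
open Cfsg.Agent.ChevalleyStructure.SL2Rep Cfsg.Agent.ChevalleyStructure.SL2Hom
open Cfsg.Agent.Tits.Roots Cfsg.Agent.Tits.Core Cfsg.Agent.Nodes.Reps Cfsg.Agent.Nodes.BNOf
  Cfsg.Agent.Nodes.RGDChev Cfsg.Agent.Nodes.Bruhat
open Cfsg.Agent.KFacts.RgdField Cfsg.Agent.KFacts.RgdChevCoord Cfsg.Agent.BpExc.TorCent Cfsg.Agent.BpExc.TorChev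
open Cfsg.Agent.BpExc.Tow Cfsg.Agent.BpExc.TowChev Cfsg.Agent.BpExc.FamExt Cfsg.Agent.BpExc.FamUntw
  Cfsg.Agent.BpExc.FamInst Cfsg.Agent.BpExc.LangFr Cfsg.Agent.BpExc.FamField
open Cfsg.Agent.GpExc.Field (glMap emb coe_emb glMap_xG emb_injective coe_glMap)
open Cfsg.Agent.H378.TorDual Cfsg.Agent.H378.TorChar Cfsg.Agent.H378.TorFin Cfsg.Agent.H378.RankOne
  Cfsg.Agent.H378.RootTor Cfsg.Agent.H378.SmallTor Cfsg.Agent.H378.AdjTab Cfsg.Agent.H493.PGTorus Cfsg.Agent.H129.WData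

universe u v

/-- the relation in `SL₂` -/
theorem sl2_cube {K : Type*} [Field K] {t : K} (ht : t ≠ 0) :
    (up t * lo (-t⁻¹) * up t * up t : Matrix.SpecialLinearGroup (Fin 2) K) ^ 3 = 1 := by
  have h1 : (up t * lo (-t⁻¹) * up t * up t : Matrix.SpecialLinearGroup (Fin 2) K) =
      ⟨!![0, t; -t⁻¹, -1], by simp [Matrix.det_fin_two, ht]⟩ := by
    apply Subtype.ext
    show !![1, t; 0, 1] * !![1, 0; -t⁻¹, 1] * !![1, t; 0, 1] * !![1, t; 0, 1] = _
    simp only [Matrix.mul_fin_two]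
    ext i j
    fin_cases i <;> fin_cases j <;> simp [ht]
  have h2 : ∀ x : Matrix.SpecialLinearGroup (Fin 2) K, x ^ 3 = x * x * x := fun x => by rw [pow_succ, pow_two]
  rw [h2, h1]
  apply Subtype.ext
  show !![0, t; -t⁻¹, -1] * !![0, t; -t⁻¹, -1] * !![0, t; -t⁻¹, -1] = (1 : Matrix (Fin 2) (Fin 2) K)
  simp only [Matrix.mul_fin_two]
  ext i j
  fin_cases i <;> fin_cases j <;> simp [ht]

variable {D : ChevalleyDatum} {l : ℕ} {M : CoxeterMatrix (Fin l)} (hp : IsType D l M) {K : Type u} [Field K]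
  {W : Type*} [Group W] (cs : CoxeterSystem M W)

include hp in
theorem cube_simple (i : Fin l) {t : K} (ht : t ≠ 0) :
    (xc hp (sr i) t * xc hp (-sr i) (-t⁻¹) * xc hp (sr i) t * xc hp (sr i) t) ^ 3 = 1 := by
  have hi := simple_lt hp.inList (lt_rank hp i)
  have hni := neg_lt hp.inList hi
  have e1 : ((xc hp (sr i) t : ↥(D.group K)) : GL D.Idx K) = xG hp.inList (D.simple i) t := by
    rw [← vec_simple hp i, coe_xc hp hi]
  have e2 : ((xc hp (-sr i) (-t⁻¹) : ↥(D.group K)) : GL D.Idx K) = xG hp.inList (D.neg (D.simple i)) (-t⁻¹) := by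
    rw [← vec_simple hp i, ← vec_neg hp hi, coe_xc hp hni]
  apply Subtype.ext
  rw [Subgroup.coe_pow, Subgroup.coe_mul, Subgroup.coe_mul, Subgroup.coe_mul, e1, e2,
    ← Cfsg.Agent.ETable.Exc.phi_up hp.inList hi, ← Cfsg.Agent.ETable.Exc.phi_lo hp.inList hi, ← map_mul, ← map_mul,
    ← map_mul, ← map_pow, sl2_cube ht, map_one]
  rfl

/-- **Rank one subgroups**: for `u ∈ X_a`, `u ≠ 1` there is `v ∈ X_{-a}` such that `u v u` swaps `X_a` and `X_{-a}` and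
`u v u u` has order 3. -/
theorem exists_swap3 (hk : LocFin K) (r : ℕ) [Fact r.Prime] [CharP K r] {a : Fin l → ℤ} (ha : IsRoot cs hp.isCartan a)
    {u : ↥(D.group K)} (hu : u ∈ XX D l K a) (hu1 : u ≠ 1) :
    ∃ v ∈ XX D l K (-a), Swap (XX D l K a) (XX D l K (-a)) (u * v * u) ∧ orderOf (u * v * u * u) = 3 := by
  have C := coordsL hp cs hk r
  have ha' := ha
  obtain ⟨w, i, rfl⟩ := ha
  obtain ⟨κ, hκ⟩ := exists_rp cs (nsysL hp cs hk r) w
  have hA : ∀ {b : Fin l → ℤ} (_ : IsRoot cs hp.isCartan b) (y : ↥(D.group K)),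
      κ * y * κ⁻¹ ∈ XX D l K (rep cs hp.isCartan w b) ↔ y ∈ XX D l K b := by
    intro b hb y
    obtain ⟨c, hc, e⟩ := x_rp C _ hκ hb
    rw [(C.coord _ (hb.act w)).mem, (C.coord _ hb).mem]
    constructor
    · rintro ⟨s, hs⟩
      refine ⟨c⁻¹ * s, ?_⟩
      have h1 := e (c⁻¹ * s)
      rw [mul_inv_cancel_left₀ hc, hs] at h1
      exact mul_left_cancel (mul_right_cancel h1)
    · rintro ⟨s, rfl⟩
      exact ⟨_, (e s).symm⟩
  have hi := isRoot_sr cs hp.isCartan i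
  obtain ⟨t, ht⟩ := ((C.coord _ hi).mem (κ⁻¹ * u * κ)).1 (by
    rw [← hA hi]
    have e : κ * (κ⁻¹ * u * κ) * κ⁻¹ = u := by group
    rwa [e])
  have ht0 : t ≠ 0 := by
    rintro rfl
    rw [(C.coord _ hi).zero] at ht
    apply hu1
    have : u = κ * (κ⁻¹ * u * κ) * κ⁻¹ := by group
    rw [this, ← ht]; group
  have h1 := swap_simple hp i ht0
  have hni : IsRoot cs hp.isCartan (-sr i) := hi.neg
  have hv : κ * xc hp (-sr i) (-t⁻¹) * κ⁻¹ ∈ XX D l K (-rep cs hp.isCartan w (sr i)) := by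
    rw [← map_neg, hA hni, (C.coord _ hni).mem]
    exact ⟨_, rfl⟩
  have hS : Swap (XX D l K (rep cs hp.isCartan w (sr i))) (XX D l K (-rep cs hp.isCartan w (sr i)))
      (u * (κ * xc hp (-sr i) (-t⁻¹) * κ⁻¹) * u) := by
    have h2 := h1.conj (A' := XX D l K (rep cs hp.isCartan w (sr i)))
      (B' := XX D l K (-rep cs hp.isCartan w (sr i))) (κ := κ) (hA hi) (by rw [← map_neg]; exact hA hni)
    rw [ht] at h2
    have e : κ * (κ⁻¹ * u * κ * xc hp (-sr i) (-t⁻¹) * (κ⁻¹ * u * κ)) * κ⁻¹ =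
        u * (κ * xc hp (-sr i) (-t⁻¹) * κ⁻¹) * u := by group
    rwa [e] at h2
  refine ⟨κ * xc hp (-sr i) (-t⁻¹) * κ⁻¹, hv, hS, ?_⟩
  refine orderOf_eq_prime ?_ ?_
  · have h2 := cube_simple hp i ht0
    rw [ht] at h2
    have e : u * (κ * xc hp (-sr i) (-t⁻¹) * κ⁻¹) * u * u =
        κ * (κ⁻¹ * u * κ * xc hp (-sr i) (-t⁻¹) * (κ⁻¹ * u * κ) * (κ⁻¹ * u * κ)) * κ⁻¹ := by group
    rw [e, conj_pow, h2, mul_one, mul_inv_cancel]
  · intro h2
    -- `n = u⁻¹` normalises `X_a`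
    have h3 : u * (κ * xc hp (-sr i) (-t⁻¹) * κ⁻¹) * u = u⁻¹ := mul_eq_one_iff_eq_inv.1 h2
    rw [h3] at hS
    have h4 : u⁻¹ * u * u⁻¹⁻¹ ∈ XX D l K (-rep cs hp.isCartan w (sr i)) := (hS.ab u).2 hu
    have h5 : u⁻¹ * u * u⁻¹⁻¹ = u := by group
    rw [h5] at h4
    exact hu1 (hS.nor u h4 fun y hy => mul_mem (mul_mem hu hy) (inv_mem hu))


/-! ### untwisted groups -/

section Main

variable [IsAlgClosed K] (hk : LocFin K) (r : ℕ) [Fact r.Prime] [CharP K r]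
  {F : Type u} [Field F] [Finite F] (f : F →+* K) {n : ℕ} (hn0 : 0 < n) (hn : Nat.card F = r ^ n)
  {d : ℕ} {B : Fin l → Fin l → ℤ} (hB : InvC D l d B) (hd : d ≠ 0)

include hk hn0 hn hB hd f in
/-- a torus element of prime order `ℓ ∤ q - 1` in the twisted torus of `w`, `w a = a`, commutes with an element of order 3 -/
theorem exists_comm3_aux {w : W} {a : Fin l → ℤ} (ha : IsRoot cs hp.isCartan a) (hwa : rep cs hp.isCartan w a = a)
    {ℓ : ℕ} (hℓ : ℓ.Prime) (hℓq : ¬ ℓ ∣ Nat.card F - 1)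
    (hy : ∃ y : Multiplicative (Co (rep cs hp.isCartan w - ((Nat.card F : ℕ) : ℤ) •
      (1 : Module.End ℤ (Fin l → ℤ)))), orderOf y = ℓ) :
    ∃ x n : ↥(D.group F), orderOf x = ℓ ∧ orderOf n = 3 ∧ Commute x n := by
  have hcop : ∀ m : ℕ, m.Coprime (Nat.card F - 1) → m.Coprime (Nat.gcd d (Nat.card F - 1)) := fun m hm =>
    Nat.Coprime.coprime_dvd_right (Nat.gcd_dvd_right _ _) hm
  have hℓc : ℓ.Coprime (Nat.card F - 1) := (Nat.Prime.coprime_iff_not_dvd hℓ).2 hℓq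
  have hrp : r.Prime := Fact.out
  have hrc : r.Coprime (Nat.card F - 1) := by
    rw [Nat.Prime.coprime_iff_not_dvd hrp]
    intro h1
    have h2 : r ∣ Nat.card F := by rw [hn]; exact dvd_pow_self _ hn0.ne'
    have h3 : 1 ≤ Nat.card F := Nat.card_pos
    have h4 : r ∣ 1 := by
      have := (Nat.dvd_sub h2 h1)
      have e : Nat.card F - (Nat.card F - 1) = 1 := by omega
      rwa [e] at this
    exact hrp.one_lt.ne' (Nat.dvd_one.1 h4)
  have hinj := emb_injective hp.inList f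
  rw [hn] at hy
  obtain ⟨g, hg⟩ := exists_rp cs (nsysL hp cs hk r) w
  obtain ⟨z, hz⟩ := lang' hp r hn0 g
  obtain ⟨e, he⟩ := twEquiv hp cs r hk hB hd hg (m := n)
  obtain ⟨e'⟩ := kerOf_equiv K (det_rep_ne_zero cs r hn0 hp.isCartan w)
  obtain ⟨y, hy⟩ := hy
  -- the torus element
  obtain ⟨t, ht⟩ : ∃ t : ↥(TwT D K r n g), t = e.symm (e'.symm y) := ⟨_, rfl⟩
  have hto : orderOf t = ℓ := by
    rw [ht, MulEquiv.orderOf_eq, MulEquiv.orderOf_eq, hy]
  have hto' : orderOf t.1 = ℓ := by rw [Subgroup.orderOf_coe, hto]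
  have htT : t.1 ∈ TT D K := t.2.1
  have htau : tau D K r n g t.1 = t.1 := t.2.2
  have htℓ : t.1 ^ ℓ = 1 := by rw [← hto']; exact pow_orderOf_eq_one _
  have hχK := (mem_TwT_iff hp cs r hk hg htT).1 t.2
  have hχℓ : tchar hp ⟨t.1, htT⟩ ^ ℓ = 1 := H378.Regular.tchar_pow_eq_one hp htT htℓ
  have hna : IsRoot cs hp.isCartan (-a) := ha.neg
  have hwna : rep cs hp.isCartan w (-a) = -a := by rw [map_neg, hwa]
  have hℓn : ℓ.Coprime (r ^ n - 1) := by rw [← hn]; exact hℓc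
  have hca := chi_eq_one (k := K) hp cs r hχK hwa hχℓ hℓn
  have hcna := chi_eq_one (k := K) hp cs r hχK hwna hχℓ hℓn
  -- the root elements
  obtain ⟨u, hu, hu1, hur, huτ⟩ := exists_fixed_x hp cs hk r hn0 hg ha hwa
  obtain ⟨v, hv, hS, h3⟩ := exists_swap3 hp cs hk r ha hu hu1
  have hvτ : tau D K r n g v = v := hS.fix hu hv (tau_surjective r) (tau_X hp cs hk r hg ha hwa)
    (fun y hy => (tau_X hp cs hk r hg hna hwna y).2 hy) huτ
  have hvr : v ^ r = 1 := X_pow hp cs r hna hv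
  have htu : t.1 * u = u * t.1 := comm_X hp cs hk r htT ha hca hu
  have htv : t.1 * v = v * t.1 := comm_X hp cs hk r htT hna hcna hv
  -- in the finite group
  have hcp : ∀ (y : ↥(D.group K)) (j : ℕ), (z * y * z⁻¹) ^ j = z * y ^ j * z⁻¹ := fun y j => conj_pow
  obtain ⟨x, hx⟩ := mem_of_pow hp f r hn hB hd (fix_of_tau r hz htau) (m := ℓ)
    (by rw [hcp, htℓ]; group) (hcop _ hℓc)
  obtain ⟨u', hu'⟩ := mem_of_pow hp f r hn hB hd (fix_of_tau r hz huτ) (m := r)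
    (by rw [hcp, hur]; group) (hcop _ hrc)
  obtain ⟨v', hv'⟩ := mem_of_pow hp f r hn hB hd (fix_of_tau r hz hvτ) (m := r)
    (by rw [hcp, hvr]; group) (hcop _ hrc)
  have hco : ∀ y : ↥(D.group K), orderOf (z * y * z⁻¹) = orderOf y := fun y => by
    have h1 : z * y * z⁻¹ = MulAut.conj z y := rfl
    rw [h1, MulEquiv.orderOf_eq]
  have hor : ∀ y : ↥(D.group F), orderOf (emb hp.inList f y) = orderOf y := fun y => orderOf_injective _ hinj y
  have hnn : emb hp.inList f (u' * v' * u' * u') = z * (u * v * u * u) * z⁻¹ := by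
    rw [map_mul, map_mul, map_mul, hu', hv']; group
  refine ⟨x, u' * v' * u' * u', ?_, ?_, ?_⟩
  · rw [← hor, hx, hco, hto']
  · rw [← hor, hnn, hco, h3]
  · apply hinj
    have hm1 : emb hp.inList f (x * (u' * v' * u' * u')) = emb hp.inList f x * emb hp.inList f (u' * v' * u' * u') :=
      map_mul _ _ _
    have hm2 : emb hp.inList f (u' * v' * u' * u' * x) = emb hp.inList f (u' * v' * u' * u') * emb hp.inList f x :=
      map_mul _ _ _
    rw [hm1, hm2, hx, hnn]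
    have cu : Commute t.1 u := htu
    have cv : Commute t.1 v := htv
    have h2 : t.1 * (u * v * u * u) = u * v * u * u * t.1 :=
      (Commute.mul_right (Commute.mul_right (Commute.mul_right cu cv) cu) cu).eq
    calc z * t.1 * z⁻¹ * (z * (u * v * u * u) * z⁻¹) = z * (t.1 * (u * v * u * u)) * z⁻¹ := by group
      _ = z * (u * v * u * u * t.1) * z⁻¹ := by rw [h2]
      _ = _ := by group

end Main

include hp cs in
/-- **Adjacency to 3 from a row.** -/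
theorem adj3_row [Finite W] {d : ℕ} {B : Fin l → Fin l → ℤ} (hB : InvC D l d B) (hd0 : d ≠ 0) {A : Mat l}
    (hA : ∀ i j, A i j = cartanOf D l i j) {L : List (Fin l × Mat l)} {r : ℕ} (hr : r < D.nroots)
    {f : ℕ} {c : Fin (f + 1) → ℤ} {V : Fin (f + 1) → Fin l → ℤ} {U : Fin l → ℤ}
    (h : RowOK A L (vec D l r) c V U) {F : Type u} [Field F] [Finite F] {ℓ : ℕ} (hℓ : ℓ.Prime) (hℓ3 : 3 ≠ ℓ)
    (hℓq : ¬ ℓ ∣ Nat.card F - 1) (hdv : (ℓ : ℤ) ∣ pv c (Nat.card F : ℕ)) : H94.PG.Adj ↥(D.group F) 3 ℓ := by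
  obtain ⟨h1, h2, h3⟩ := h
  obtain ⟨k, _, _, f', r', _, hc, n, hk, -, hn0, hn⟩ := exists_closure F
  obtain ⟨x, y, hx, hy, hxy⟩ := exists_comm3_aux hp cs hk r' f' hn0 hn hB hd0 (isRoot_vec hp cs hr)
    (fixes_of_row hp cs hA h1 h2) hℓ hℓq
    (exists_order_row hp cs hA h1 h3 Finite.one_lt_card hℓ.pos hdv)
  exact ⟨Nat.prime_three, hℓ, hℓ3, y, x, hy, hx, hxy.symm⟩

end Cfsg.Agent.H493.NCRow
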