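import Cfsg.Agent.H493.NCRow.OutE6
import Cfsg.Agent.H493.NCRow.Three

/-!
# The row `E₆` for S4185
-/

set_option autoImplicit false
set_option linter.unusedSectionVars false

namespace Cfsg.Agent.H493.NCRow

open CoxeterSystem Subgroup Cfsg Cfsg.Lie Cfsg.Lie.ChevalleyDatum
open Cfsg.Agent.ChevalleyStructure Cfsg.Agent.ChevalleyStructure.Elts Cfsg.Agent.ChevalleyStructure.CoxeterGeom
  Cfsg.Agent.ChevalleyStructure.CoxeterGeomTypes Cfsg.Agent.ChevalleyStructure.NPerm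
open Cfsg.Agent.Tits.Roots Cfsg.Agent.Tits.Core Cfsg.Agent.Nodes.Reps Cfsg.Agent.Nodes.BNOf
  Cfsg.Agent.Nodes.RGDChev Cfsg.Agent.Nodes.Bruhat
open Cfsg.Agent.KFacts.RgdField Cfsg.Agent.KFacts.RgdChevCoord Cfsg.Agent.BpExc.TorCent Cfsg.Agent.BpExc.TorChev
open Cfsg.Agent.BpExc.Tow Cfsg.Agent.BpExc.TowChev Cfsg.Agent.BpExc.FamExt Cfsg.Agent.BpExc.FamUntw
  Cfsg.Agent.BpExc.FamInst Cfsg.Agent.BpExc.LangFr Cfsg.Agent.BpExc.FamField
open Cfsg.Agent.BpExc.RowsUntw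
open Cfsg.Agent.H378 Cfsg.Agent.H378.RankOne Cfsg.Agent.H378.CycTab Cfsg.Agent.H378.RootTor Cfsg.Agent.H378.SmallTor Cfsg.Agent.H378.AdjTab Cfsg.Agent.H378.ExcAdj

universe u

section Small

variable {D : ChevalleyDatum} {l : ℕ} {M : CoxeterMatrix (Fin l)} (hp : IsType D l M)
  {F : Type u} [Field F] [Finite F]

theorem hc_order {j : Fin l} {s : ℕ} (hs : s < D.nroots) (h1 : D.cartan j s = -1) {ζ : Fˣ} {ℓ : ℕ}
    (hℓ : ℓ.Prime) (hζ : orderOf ζ = ℓ) : orderOf (hc hp j (ζ : F)) = ℓ := by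
  have : Fact ℓ.Prime := ⟨hℓ⟩
  refine orderOf_eq_prime (hc_pow_eq_one hp j ζ.ne_zero ?_) (hc_ne_one hp j ζ.ne_zero hs ?_)
  · rw [← Units.val_pow_eq_pow_val, ← hζ, pow_orderOf_eq_one, Units.val_one]
  · rw [h1, zpow_neg, zpow_one, ne_eq, inv_eq_one]
    intro h2
    have h3 : ζ = 1 := Units.ext h2
    rw [h3, orderOf_one] at hζ
    exact hℓ.one_lt.ne hζ

theorem exists_unit {F : Type u} [Field F] [Finite F] {ℓ : ℕ} (hℓ : ℓ.Prime) (h : ℓ ∣ Nat.card F - 1) :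
    ∃ ζ : Fˣ, orderOf ζ = ℓ := by
  have : Fact ℓ.Prime := ⟨hℓ⟩
  exact exists_prime_orderOf_dvd_card' (G := Fˣ) ℓ (by rw [Nat.card_units]; exact h)

include hp in
/-- the primes dividing `q (q - 1)` are adjacent to 3 -/
theorem adj3_small {j : Fin l} {r s : ℕ} (h : Orth D l j r s) (h1 : D.cartan j s = -1) (h3 : 3 ∣ Nat.card F - 1)
    {ℓ : ℕ} (hℓ : ℓ.Prime) (hℓ3 : 3 ≠ ℓ) (hd : ℓ ∣ Nat.card F ∨ ℓ ∣ Nat.card F - 1) :
    H94.PG.Adj ↥(D.group F) 3 ℓ := by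
  let cs : CoxeterSystem M M.Group := M.toCoxeterSystem
  obtain ⟨ω, hω⟩ := exists_unit Nat.prime_three h3
  have hy := hc_order hp h.hs h1 Nat.prime_three hω
  rcases hd with hd | hd
  · obtain ⟨p, _, _, n, hn0, hn⟩ := exists_charP F
    have hrp : ℓ = p := by
      rw [hn] at hd
      exact (Nat.prime_dvd_prime_iff_eq hℓ Fact.out).1 (hℓ.dvd_of_dvd_pow hd)
    subst hrp
    have hk := locFin_of_finite F
    have C := coordsL hp cs hk ℓ
    have hr : IsRoot cs hp.isCartan (vec D l r) := isRoot_vec hp cs h.hr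
    have hu : xc hp (vec D l r) (1 : F) ∈ XX D l F (vec D l r) := (mem_XX hp h.hr).2 ⟨1, rfl⟩
    have hu1 : xc hp (vec D l r) (1 : F) ≠ 1 := (C.coord _ hr).ne_one one_ne_zero
    refine ⟨Nat.prime_three, hℓ, hℓ3, _, xc hp (vec D l r) 1, hy, orderOf_eq_prime (X_pow hp cs ℓ hr hu) hu1, ?_⟩
    have h2 := (C.coord _ hr).act _ (hc_mem hp j ω.ne_zero) 1
    rw [ch_hc hp j ω.ne_zero h.hr, h.zero, zpow_zero, one_mul] at h2
    exact mul_inv_eq_iff_eq_mul.1 h2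
  · obtain ⟨ζ, hζ⟩ := exists_unit hℓ hd
    have hx := hc_order hp h.hs h1 hℓ hζ
    exact ⟨Nat.prime_three, hℓ, hℓ3, _, _, hy, hx,
      Cfsg.Agent.BpExc.TorChev.TT_comm hp _ (hc_mem hp j ω.ne_zero) _ (hc_mem hp j ζ.ne_zero)⟩

end Small

/-- cyclic Sylow subgroups of `E₆(q)` -/
theorem cyc_E6 (F : Type u) [Field F] [Finite F] {s : ℕ} (hs : s.Prime) (hd : s ∣ Nat.card ↥(chevE6.group F)) {m : ℕ}
    (hm : od (Nat.card F) s = m) (h7 : 6 ≤ m) (h1 : (([2, 5, 6, 8, 9, 12] : List ℕ).filter (fun e => m ∣ e)).length ≤ 1) :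
    H160.NC.Cyc ↥(chevE6.group F) s := by
  refine H442.RowE7.cyc_of_od (chevE6, [2, 5, 6, 8, 9, 12]) (by simp) hs hm (by omega) h1 ?_ hd
  intro h2
  have : Fact s.Prime := ⟨hs⟩
  have h3 : od (Nat.card F) s ∣ s - 1 := by
    refine ZMod.orderOf_dvd_card_sub_one ?_
    intro h4
    have h5 : orderOf ((Nat.card F : ℕ) : ZMod s) = 0 := by
      rw [h4, orderOf_eq_zero_iff']
      intro n hn
      rw [zero_pow hn.ne']
      exact zero_ne_one
    have h6 : od (Nat.card F) s = 0 := h5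
    omega
  have h4 : 6 ≤ s - 1 := by
    refine h7.trans ?_
    rw [hm] at h3
    exact Nat.le_of_dvd (by have := hs.two_le; omega) h3
  have h5 : s ∣ 2 ^ 7 * 3 ^ 4 * 5 := by
    refine h2.trans ?_
    norm_num
  have h6 := hs.dvd_mul.1 h5
  rcases h6 with h6 | h6
  · rcases hs.dvd_mul.1 h6 with h6 | h6
    · have := Nat.le_of_dvd (by norm_num) (hs.dvd_of_dvd_pow h6); omega
    · have := Nat.le_of_dvd (by norm_num) (hs.dvd_of_dvd_pow h6); omega
  · have := Nat.le_of_dvd (by norm_num) h6; omega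

/-- the primes `s ≠ 3`, `3 ∣ q - 1` -/
theorem ok3_E6 (F : Type u) [Field F] [Finite F] (h3 : 3 ∣ Nat.card F - 1) {s : ℕ} (hs : s.Prime) (hs3 : s ≠ 3)
    (hd : s ∣ Nat.card ↥(chevE6.group F)) : H160.NC.OkOdd ↥(chevE6.group F) 3 s := by
  let cs : CoxeterSystem CoxeterMatrix.E₆ CoxeterMatrix.E₆.Group := CoxeterMatrix.E₆.toCoxeterSystem
  have := finite_W e6T cs
  have hq : 1 ≤ Nat.card F := Nat.card_pos
  have hn1 : ∀ {m : ℕ}, m ≠ 1 → od (Nat.card F) s = m → ¬ s ∣ Nat.card F - 1 := by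
    intro m hm h3 h4
    have h5 : od (Nat.card F) s ∣ 1 := od_dvd hq (by rw [pow_one]; exact h4)
    rw [h3] at h5
    exact hm (Nat.dvd_one.1 h5)
  have hc : chevE6.cartan 0 5 = -1 := by decide +kernel
  rcases od_E6 hs hd with h | h | h | h | h | h | h | h | h | h
  · exact Or.inl (adj3_small e6T AdjE6.orth hc h3 hs hs3.symm (Or.inl h))
  · exact Or.inl (adj3_small e6T AdjE6.orth hc h3 hs hs3.symm (Or.inr (dvd_of_od_one hq h)))
  · exact Or.inl (adj3_row e6T cs inv_E6 three_ne_zero AdjE6.hA AdjE6.lt_nroots AdjE6.row2 hs hs3.symm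
      (hn1 (by decide) h) (dvd2 hs h))
  · exact Or.inl (adj3_row e6T cs inv_E6 three_ne_zero AdjE6.hA AdjE6.lt_nroots AdjE6.row3 hs hs3.symm
      (hn1 (by decide) h) (dvd3 hs h))
  · exact Or.inl (adj3_row e6T cs inv_E6 three_ne_zero AdjE6.hA AdjE6.lt_nroots AdjE6.row4 hs hs3.symm
      (hn1 (by decide) h) (dvd4 hs h))
  · exact Or.inl (adj3_row e6T cs inv_E6 three_ne_zero AdjE6.hA AdjE6.lt_nroots AdjE6.row5 hs hs3.symm
      (hn1 (by decide) h) (dvd5 hs h))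
  · exact Or.inl (adj3_row e6T cs inv_E6 three_ne_zero AdjE6.hA AdjE6.lt_nroots AdjE6.row6 hs hs3.symm
      (hn1 (by decide) h) (dvd6 hs h))
  · exact Or.inr (Or.inl (cyc_E6 F hs hd h (by norm_num) (by decide)))
  · exact Or.inr (Or.inl (cyc_E6 F hs hd h (by norm_num) (by decide)))
  · exact Or.inr (Or.inl (cyc_E6 F hs hd h (by norm_num) (by decide)))

/-- 2 and 3 divide the order -/
theorem arith {q g N m : ℕ} (hg : g ∣ 3) (h : g * N = q ^ 36 * (q ^ 2 - 1) * m * (q ^ 6 - 1)) : 2 ∣ N ∧ 3 ∣ N := by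
  have h1 : q ^ 2 - 1 = (q + 1) * (q - 1) := by
    have := Nat.sq_sub_sq q 1
    rwa [one_pow] at this
  have h6 : q ^ 2 - 1 ∣ q ^ 6 - 1 := by
    have := Nat.sub_dvd_pow_sub_pow (q ^ 2) 1 3
    rwa [one_pow, ← pow_mul] at this
  have h2 : 2 ∣ q ∨ 2 ∣ q ^ 2 - 1 := by
    rcases Nat.even_or_odd' q with ⟨k, hk | hk⟩
    · exact Or.inl ⟨k, hk⟩
    · right
      rw [h1]
      exact Dvd.dvd.mul_right ⟨k + 1, by omega⟩ _
  have h3 : 3 ∣ q ∨ 3 ∣ q ^ 2 - 1 := by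
    have h4 : q % 3 = 0 ∨ q % 3 = 1 ∨ q % 3 = 2 := by omega
    rcases h4 with h4 | h4 | h4
    · exact Or.inl (Nat.dvd_of_mod_eq_zero h4)
    · right
      rw [h1]
      exact Dvd.dvd.mul_left (by omega) _
    · right
      rw [h1]
      exact Dvd.dvd.mul_right (by omega) _
  constructor
  · have h4 : 2 ∣ g * N := by
      rw [h]
      rcases h2 with h2 | h2
      · exact (((dvd_pow h2 (by norm_num)).mul_right _).mul_right _).mul_right _
      · exact ((h2.mul_left _).mul_right _).mul_right _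
    rcases Nat.prime_two.dvd_mul.1 h4 with h5 | h5
    · exact absurd (h5.trans hg) (by norm_num)
    · exact h5
  · have h4 : 9 ∣ g * N := by
      rw [h]
      rcases h3 with h3 | h3
      · have h5 : 9 ∣ q ^ 36 := by
          have : (9 : ℕ) = 3 ^ 2 := by norm_num
          rw [this]
          exact (pow_dvd_pow_of_dvd h3 2).trans (pow_dvd_pow q (by norm_num))
        exact ((h5.mul_right _).mul_right _).mul_right _
      · have h5 : 3 * 3 ∣ (q ^ 36 * (q ^ 2 - 1) * m) * (q ^ 6 - 1) :=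
          mul_dvd_mul ((h3.mul_left _).mul_right _) (h3.trans h6)
        exact h5
    have h5 : 3 * 3 ∣ 3 * N := h4.trans (Nat.mul_dvd_mul_right hg N)
    exact Nat.dvd_of_mul_dvd_mul_left (by norm_num) h5

/-- **The row `E₆`.** -/
theorem row_E6 (F : Type u) [Field F] [Finite F] : H160.NC.Row ↥(chevE6.group F) := by
  have : Fintype F := Fintype.ofFinite F
  have hcard := Cfsg.Agent.S1063.result (F := F) rfl
  have h23 := arith (N := Nat.card ↥(chevE6.group F)) (q := Fintype.card F)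
    (m := (Fintype.card F ^ 5 - 1) * (Fintype.card F ^ 8 - 1) * (Fintype.card F ^ 9 - 1) * (Fintype.card F ^ 12 - 1))
    (Nat.gcd_dvd_left 3 _) (hcard.trans (by ring))
  refine ⟨?_, out_E6 F h23.1 h23.2 (fun h3 s hs hs3 hd => ok3_E6 F h3 hs hs3 hd)⟩
  intro _ s hs hs2 hd
  rcases H378.ExcAdj.adj_E6 F hs hd with h | h | h | h | h
  · exact absurd h hs2
  · exact Or.inl h.symm
  · exact Or.inr (Or.inl (cyc_E6 F hs hd h (by norm_num) (by decide)))
  · exact Or.inr (Or.inl (cyc_E6 F hs hd h (by norm_num) (by decide)))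
  · exact Or.inr (Or.inl (cyc_E6 F hs hd h (by norm_num) (by decide)))

end Cfsg.Agent.H493.NCRow
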